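import Mathlib

/-!
Shared definitions for S2459 (every non-identity element of PSL_3(F) is a product of two
conjugates of a fixed semisimple element), via a Sourour-type block LU factorisation.
-/

set_option autoImplicit false

namespace Cfsg.Agent.Lib.Helper5.ThreeSq

variable {F : Type*} [Field F]

/-- Schur complement of the `(0,0)` entry of a `3 × 3` matrix. -/
def schur (M : Matrix (Fin 3) (Fin 3) F) : Matrix (Fin 2) (Fin 2) F :=
  Matrix.of fun i j => M i.succ j.succ - M i.succ 0 * M 0 j.succ / M 0 0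

/-- The block diagonal matrix `diag(b, R)`. -/
def blk (b : F) (R : Matrix (Fin 2) (Fin 2) F) : Matrix (Fin 3) (Fin 3) F :=
  !![b, 0, 0; 0, R 0 0, R 0 1; 0, R 1 0, R 1 1]

/-- Similarity of square matrices, phrased without inverses. -/
def Conj {n : Type*} [Fintype n] [DecidableEq n] (A B : Matrix n n F) : Prop :=
  ∃ P : Matrix n n F, P.det ≠ 0 ∧ A * P = P * B

theorem schur_apply (M : Matrix (Fin 3) (Fin 3) F) (i j : Fin 2) :
    schur M i j = M i.succ j.succ - M i.succ 0 * M 0 j.succ / M 0 0 := rfl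

theorem det_eq_mul_det_schur (M : Matrix (Fin 3) (Fin 3) F) (h : M 0 0 ≠ 0) :
    M.det = M 0 0 * (schur M).det := by
  rw [Matrix.det_fin_three, Matrix.det_fin_two]
  simp only [schur_apply]
  have e0 : (Fin.succ (0 : Fin 2) : Fin 3) = 1 := rfl
  have e1 : (Fin.succ (1 : Fin 2) : Fin 3) = 2 := rfl
  rw [e0, e1]
  field_simp
  ring

theorem blk_det (b : F) (R : Matrix (Fin 2) (Fin 2) F) : (blk b R).det = b * R.det := by
  rw [Matrix.det_fin_three, Matrix.det_fin_two]
  simp [blk]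
  ring

theorem Conj.refl {n : Type*} [Fintype n] [DecidableEq n] (A : Matrix n n F) : Conj A A :=
  ⟨1, by simp, by simp⟩

theorem Conj.trans {n : Type*} [Fintype n] [DecidableEq n] {A B C : Matrix n n F}
    (h1 : Conj A B) (h2 : Conj B C) : Conj A C := by
  obtain ⟨P, hP, e1⟩ := h1
  obtain ⟨Q, hQ, e2⟩ := h2
  refine ⟨P * Q, by rw [Matrix.det_mul]; exact mul_ne_zero hP hQ, ?_⟩
  rw [← Matrix.mul_assoc, e1, Matrix.mul_assoc, e2, Matrix.mul_assoc]

theorem Conj.symm {n : Type*} [Fintype n] [DecidableEq n] {A B : Matrix n n F}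
    (h : Conj A B) : Conj B A := by
  obtain ⟨P, hP, e⟩ := h
  have hu : IsUnit P.det := isUnit_iff_ne_zero.mpr hP
  refine ⟨P⁻¹, by rw [Matrix.det_nonsing_inv]; simpa using hP, ?_⟩
  have h1 : P⁻¹ * P = 1 := Matrix.nonsing_inv_mul P hu
  have h2 : P * P⁻¹ = 1 := Matrix.mul_nonsing_inv P hu
  calc B * P⁻¹ = P⁻¹ * P * B * P⁻¹ := by rw [h1, Matrix.one_mul]
    _ = P⁻¹ * (A * P) * P⁻¹ := by rw [e]; simp only [Matrix.mul_assoc]
    _ = P⁻¹ * A * (P * P⁻¹) := by simp only [Matrix.mul_assoc]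
    _ = P⁻¹ * A := by rw [h2, Matrix.mul_one]

theorem Conj.det_eq {n : Type*} [Fintype n] [DecidableEq n] {A B : Matrix n n F}
    (h : Conj A B) : A.det = B.det := by
  obtain ⟨P, hP, e⟩ := h
  have := congrArg Matrix.det e
  rw [Matrix.det_mul, Matrix.det_mul, mul_comm] at this
  exact mul_left_cancel₀ hP this

/-- Conjugate matrices stay conjugate after subtracting the same scalar. -/
theorem Conj.sub_smul {n : Type*} [Fintype n] [DecidableEq n] {A B : Matrix n n F}
    (h : Conj A B) (c : F) : Conj (A - c • 1) (B - c • 1) := by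
  obtain ⟨P, hP, e⟩ := h
  refine ⟨P, hP, ?_⟩
  rw [Matrix.sub_mul, Matrix.mul_sub, e]
  simp

end Cfsg.Agent.Lib.Helper5.ThreeSq
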