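import Cfsg.Agent.Lib.Helper5.ThreeSq.Defs

/-!
Block LU framework for S2459 (package Y4).
-/

set_option autoImplicit false

namespace Cfsg.Agent.Lib.Helper5.ThreeSq

variable {F : Type*} [Field F]

theorem blk_mul (a b : F) (A B : Matrix (Fin 2) (Fin 2) F) :
    blk a A * blk b B = blk (a * b) (A * B) := by
  ext i j
  fin_cases i <;> fin_cases j <;>
    simp [blk, Matrix.mul_apply, Fin.sum_univ_three, Fin.sum_univ_two]

theorem blk_one_one : blk (1 : F) (1 : Matrix (Fin 2) (Fin 2) F) = 1 := by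
  ext i j
  fin_cases i <;> fin_cases j <;> simp [blk]

/-- Similar `2 × 2` blocks give similar block diagonal matrices. -/
theorem conj_blk (b : F) {A B : Matrix (Fin 2) (Fin 2) F} (h : Conj A B) :
    Conj (blk b A) (blk b B) := by
  obtain ⟨Q, hQ, e⟩ := h
  refine ⟨blk 1 Q, by rw [blk_det, one_mul]; exact hQ, ?_⟩
  rw [blk_mul, blk_mul, e, mul_one, one_mul]

/-- A block lower triangular matrix is similar to its block diagonal part when the corner entry is
not an eigenvalue of the block. -/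
theorem conj_lower (b l0 l1 : F) (L : Matrix (Fin 2) (Fin 2) F)
    (hev : (L - b • (1 : Matrix (Fin 2) (Fin 2) F)).det ≠ 0) :
    Conj (!![b, 0, 0; l0, L 0 0, L 0 1; l1, L 1 0, L 1 1] : Matrix (Fin 3) (Fin 3) F) (blk b L) := by
  -- solve `(b - L) w = l`
  set N : Matrix (Fin 2) (Fin 2) F := L - b • (1 : Matrix (Fin 2) (Fin 2) F) with hN
  have hu : IsUnit N.det := isUnit_iff_ne_zero.mpr hev
  set w : Fin 2 → F := N⁻¹.mulVec ![-l0, -l1] with hw
  have hNw : N.mulVec w = ![-l0, -l1] := by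
    rw [hw, Matrix.mulVec_mulVec, Matrix.mul_nonsing_inv N hu, Matrix.one_mulVec]
  have h0 := congrFun hNw 0
  have h1 := congrFun hNw 1
  simp [hN, Matrix.mulVec, dotProduct, Fin.sum_univ_two, Matrix.sub_apply, Matrix.smul_apply] at h0 h1
  refine ⟨!![1, 0, 0; w 0, 1, 0; w 1, 0, 1], ?_, ?_⟩
  · rw [Matrix.det_fin_three]; simp
  · ext i j
    fin_cases i <;> fin_cases j <;>
      simp [blk, Matrix.mul_apply, Fin.sum_univ_three]
    · linear_combination h0
    · linear_combination h1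

/-- A block upper triangular matrix is similar to its block diagonal part when the corner entry is
not an eigenvalue of the block. -/
theorem conj_upper (b u0 u1 : F) (U : Matrix (Fin 2) (Fin 2) F)
    (hev : (U - b • (1 : Matrix (Fin 2) (Fin 2) F)).det ≠ 0) :
    Conj (!![b, u0, u1; 0, U 0 0, U 0 1; 0, U 1 0, U 1 1] : Matrix (Fin 3) (Fin 3) F) (blk b U) := by
  set N : Matrix (Fin 2) (Fin 2) F := (U - b • (1 : Matrix (Fin 2) (Fin 2) F)).transpose with hN
  have hu : IsUnit N.det := by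
    rw [hN, Matrix.det_transpose]; exact isUnit_iff_ne_zero.mpr hev
  set z : Fin 2 → F := N⁻¹.mulVec ![u0, u1] with hz
  have hNz : N.mulVec z = ![u0, u1] := by
    rw [hz, Matrix.mulVec_mulVec, Matrix.mul_nonsing_inv N hu, Matrix.one_mulVec]
  have h0 := congrFun hNz 0
  have h1 := congrFun hNz 1
  simp [hN, Matrix.mulVec, dotProduct, Fin.sum_univ_two, Matrix.sub_apply, Matrix.smul_apply,
    Matrix.transpose_apply] at h0 h1
  refine ⟨!![1, z 0, z 1; 0, 1, 0; 0, 0, 1], ?_, ?_⟩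
  · rw [Matrix.det_fin_three]; simp
  · ext i j
    fin_cases i <;> fin_cases j <;>
      simp [blk, Matrix.mul_apply, Fin.sum_univ_three]
    · linear_combination (-1 : F) * h0
    · linear_combination (-1 : F) * h1

/-- Block LU identity. -/
theorem block_lu (b : F) (hb : b ≠ 0) (M : Matrix (Fin 3) (Fin 3) F) (hM : M 0 0 = b * b)
    (L U : Matrix (Fin 2) (Fin 2) F) (hS : schur M = L * U) :
    M = (!![b, 0, 0; M 1 0 / b, L 0 0, L 0 1; M 2 0 / b, L 1 0, L 1 1] : Matrix (Fin 3) (Fin 3) F) *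
      !![b, M 0 1 / b, M 0 2 / b; 0, U 0 0, U 0 1; 0, U 1 0, U 1 1] := by
  have e0 : (Fin.succ (0 : Fin 2) : Fin 3) = 1 := rfl
  have e1 : (Fin.succ (1 : Fin 2) : Fin 3) = 2 := rfl
  have s00 := congrFun (congrFun hS 0) 0
  have s01 := congrFun (congrFun hS 0) 1
  have s10 := congrFun (congrFun hS 1) 0
  have s11 := congrFun (congrFun hS 1) 1
  simp only [schur_apply, Matrix.mul_apply, Fin.sum_univ_two, e0, e1, hM] at s00 s01 s10 s11
  ext i j
  fin_cases i <;> fin_cases j <;>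
    simp [Matrix.mul_apply, Fin.sum_univ_three]
  · exact hM
  · field_simp
  · field_simp
  · field_simp
  · rw [add_assoc, ← s00]; field_simp; ring
  · rw [add_assoc, ← s01]; field_simp; ring
  · field_simp
  · rw [add_assoc, ← s10]; field_simp; ring
  · rw [add_assoc, ← s11]; field_simp; ring

/-- From matrix similarity to conjugacy inside `SL₃`, for a target of the form `diag(b, R)`. -/
theorem sl_conj_of_conj (b : F) (R : Matrix (Fin 2) (Fin 2) F)
    (X : Matrix.SpecialLinearGroup (Fin 3) F) (hX : (X : Matrix (Fin 3) (Fin 3) F) = blk b R)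
    (N : Matrix.SpecialLinearGroup (Fin 3) F)
    (h : Conj (N : Matrix (Fin 3) (Fin 3) F) (blk b R)) :
    ∃ A : Matrix.SpecialLinearGroup (Fin 3) F, N = A * X * A⁻¹ := by
  obtain ⟨T, hT, e⟩ := h
  have hdet : (T * blk (T.det)⁻¹ (1 : Matrix (Fin 2) (Fin 2) F)).det = 1 := by
    rw [Matrix.det_mul, blk_det, Matrix.det_one, mul_one, mul_inv_cancel₀ hT]
  obtain ⟨A, hA⟩ : ∃ A : Matrix.SpecialLinearGroup (Fin 3) F,
      (A : Matrix (Fin 3) (Fin 3) F) = T * blk (T.det)⁻¹ 1 := ⟨⟨_, hdet⟩, rfl⟩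
  refine ⟨A, ?_⟩
  rw [eq_mul_inv_iff_mul_eq]
  apply Subtype.ext
  simp only [Matrix.SpecialLinearGroup.coe_mul]
  rw [hA, hX, ← Matrix.mul_assoc, e, Matrix.mul_assoc, Matrix.mul_assoc, blk_mul, blk_mul, mul_comm,
    Matrix.mul_one, Matrix.one_mul]

/-- Package Y4. -/
theorem framework (β : F) (R : Matrix (Fin 2) (Fin 2) F)
    (X : Matrix.SpecialLinearGroup (Fin 3) F) (hX : (X : Matrix (Fin 3) (Fin 3) F) = blk β R)
    (hev : (R - β • (1 : Matrix (Fin 2) (Fin 2) F)).det ≠ 0)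
    (g : Matrix.SpecialLinearGroup (Fin 3) F) (P M : Matrix (Fin 3) (Fin 3) F)
    (hP : P.det ≠ 0) (hgP : (g : Matrix (Fin 3) (Fin 3) F) * P = P * M) (hM : M 0 0 = β * β)
    (L U : Matrix (Fin 2) (Fin 2) F) (hS : schur M = L * U) (hL : Conj L R) (hU : Conj U R) :
    ∃ A B : Matrix.SpecialLinearGroup (Fin 3) F, g = A * X * A⁻¹ * (B * X * B⁻¹) := by
  have hx : (blk β R).det = 1 := by rw [← hX]; exact X.2
  have hβ : β ≠ 0 := by
    intro h
    rw [blk_det, h, zero_mul] at hx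
    exact zero_ne_one hx
  have hevL : (L - β • (1 : Matrix (Fin 2) (Fin 2) F)).det ≠ 0 := by
    rw [(hL.sub_smul β).det_eq]; exact hev
  have hevU : (U - β • (1 : Matrix (Fin 2) (Fin 2) F)).det ≠ 0 := by
    rw [(hU.sub_smul β).det_eq]; exact hev
  set Lm : Matrix (Fin 3) (Fin 3) F :=
    !![β, 0, 0; M 1 0 / β, L 0 0, L 0 1; M 2 0 / β, L 1 0, L 1 1] with hLm
  set Um : Matrix (Fin 3) (Fin 3) F :=
    !![β, M 0 1 / β, M 0 2 / β; 0, U 0 0, U 0 1; 0, U 1 0, U 1 1] with hUm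
  have hMLU : M = Lm * Um := block_lu β hβ M hM L U hS
  have cL : Conj Lm (blk β R) := (conj_lower β _ _ L hevL).trans (conj_blk β hL)
  have cU : Conj Um (blk β R) := (conj_upper β _ _ U hevU).trans (conj_blk β hU)
  have hPu : IsUnit P.det := isUnit_iff_ne_zero.mpr hP
  have hPP : P * P⁻¹ = 1 := Matrix.mul_nonsing_inv P hPu
  have hPP' : P⁻¹ * P = 1 := Matrix.nonsing_inv_mul P hPu
  have cP : ∀ Y : Matrix (Fin 3) (Fin 3) F, Conj (P * Y * P⁻¹) Y := fun Y =>
    ⟨P, hP, by rw [Matrix.mul_assoc, Matrix.mul_assoc, hPP', Matrix.mul_one]⟩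
  have d1 : (P * Lm * P⁻¹).det = 1 := by
    rw [((cP Lm).trans cL).det_eq]; exact hx
  have d2 : (P * Um * P⁻¹).det = 1 := by
    rw [((cP Um).trans cU).det_eq]; exact hx
  obtain ⟨N1, hN1⟩ : ∃ N : Matrix.SpecialLinearGroup (Fin 3) F,
      (N : Matrix (Fin 3) (Fin 3) F) = P * Lm * P⁻¹ := ⟨⟨_, d1⟩, rfl⟩
  obtain ⟨N2, hN2⟩ : ∃ N : Matrix.SpecialLinearGroup (Fin 3) F,
      (N : Matrix (Fin 3) (Fin 3) F) = P * Um * P⁻¹ := ⟨⟨_, d2⟩, rfl⟩
  obtain ⟨A, hA⟩ := sl_conj_of_conj β R X hX N1 (by rw [hN1]; exact (cP Lm).trans cL)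
  obtain ⟨B, hB⟩ := sl_conj_of_conj β R X hX N2 (by rw [hN2]; exact (cP Um).trans cU)
  refine ⟨A, B, ?_⟩
  rw [← hA, ← hB]
  apply Subtype.ext
  rw [Matrix.SpecialLinearGroup.coe_mul, hN1, hN2]
  calc (g : Matrix (Fin 3) (Fin 3) F) = (g : Matrix (Fin 3) (Fin 3) F) * (P * P⁻¹) := by
        rw [hPP, Matrix.mul_one]
    _ = P * M * P⁻¹ := by rw [← Matrix.mul_assoc, hgP]
    _ = P * Lm * (P⁻¹ * P) * Um * P⁻¹ := by
        rw [hPP', Matrix.mul_one, hMLU]; simp only [Matrix.mul_assoc]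
    _ = P * Lm * P⁻¹ * (P * Um * P⁻¹) := by simp only [Matrix.mul_assoc]

end Cfsg.Agent.Lib.Helper5.ThreeSq
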