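import Cfsg.Agent.Lib.Helper5.ThreeSq.Framework
import Cfsg.Agent.Lib.Helper4.CarveY1
import Cfsg.Agent.Lib.Helper4.CarveY2
import Cfsg.Agent.Lib.Helper1.CarveY3

/-!
S2459 assembly: every non-identity element of `PSL₃(F)` (`|F| ≥ 3`) is a product of two conjugates
of a fixed semisimple element.
-/

set_option autoImplicit false

namespace Cfsg.Agent.Lib.Helper5.ThreeSq

open Cfsg.Agent.Lib.Carve

variable {F : Type*} [Field F]

/-- The `SL₃` statement in the split case. -/
theorem sl3_split (α : F) (hα : α ≠ 0) (hα2 : α ^ 2 ≠ 1)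
    (X : Matrix.SpecialLinearGroup (Fin 3) F)
    (hX : (X : Matrix (Fin 3) (Fin 3) F) = blk 1 (Matrix.diagonal ![α, α⁻¹]))
    (g : Matrix.SpecialLinearGroup (Fin 3) F)
    (hg : ∀ c : F, (g : Matrix (Fin 3) (Fin 3) F) ≠ c • (1 : Matrix (Fin 3) (Fin 3) F)) :
    ∃ A B : Matrix.SpecialLinearGroup (Fin 3) F, g = A * X * A⁻¹ * (B * X * B⁻¹) := by
  have hgdet : (g : Matrix (Fin 3) (Fin 3) F).det = 1 := g.2
  obtain ⟨P, M, hP, hgP, hM, hSns⟩ :=
    Y1.exists_conj_schur_nonscalar (g : Matrix (Fin 3) (Fin 3) F) hg (by rw [hgdet]; exact one_ne_zero)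
      1 one_ne_zero
  have hMdet : M.det = 1 := by
    have : Conj (g : Matrix (Fin 3) (Fin 3) F) M := ⟨P, hP, hgP⟩
    rw [← this.det_eq, hgdet]
  have hSdet : (schur M).det = 1 := by
    have := det_eq_mul_det_schur M (by rw [hM]; exact one_ne_zero)
    rw [hM, one_mul, hMdet] at this
    exact this.symm
  obtain ⟨L, U, hLU, hL, hU⟩ := Y2.two_by_two_split (schur M) hSns hSdet α hα hα2
  have hev : (Matrix.diagonal ![α, α⁻¹] - (1 : F) • (1 : Matrix (Fin 2) (Fin 2) F)).det ≠ 0 := by
    rw [Matrix.det_fin_two]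
    simp
    have h1 : α - 1 ≠ 0 := by
      intro h
      apply hα2
      rw [sub_eq_zero.mp h, one_pow]
    have h2 : α⁻¹ - 1 ≠ 0 := by
      intro h
      have : α⁻¹ = 1 := sub_eq_zero.mp h
      apply hα2
      rw [inv_eq_one.mp this, one_pow]
    exact ⟨h1, h2⟩
  exact framework 1 _ X hX hev g P M hP hgP (by rw [hM, one_mul]) L U hLU hL hU

/-- The `SL₃` statement for the field with three elements. -/
theorem sl3_three [Fintype F] (hF : Fintype.card F = 3)
    (X : Matrix.SpecialLinearGroup (Fin 3) F)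
    (hX : (X : Matrix (Fin 3) (Fin 3) F) = blk 1 !![0, -1; 1, 0])
    (g : Matrix.SpecialLinearGroup (Fin 3) F)
    (hg : ∀ c : F, (g : Matrix (Fin 3) (Fin 3) F) ≠ c • (1 : Matrix (Fin 3) (Fin 3) F)) :
    ∃ A B : Matrix.SpecialLinearGroup (Fin 3) F, g = A * X * A⁻¹ * (B * X * B⁻¹) := by
  obtain ⟨P, M, L, U, hP, hgP, hM, hLU, hL, hU⟩ :=
    Y3.three_reduction hF (g : Matrix (Fin 3) (Fin 3) F) hg g.2
  have h3 : (3 : F) = 0 := by
    have := Nat.cast_card_eq_zero F
    rw [hF] at this
    exact_mod_cast this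
  have hev : ((!![0, -1; 1, 0] : Matrix (Fin 2) (Fin 2) F) - (1 : F) • (1 : Matrix (Fin 2) (Fin 2) F)).det ≠ 0 := by
    rw [Matrix.det_fin_two]
    simp
    intro h
    have h2 : (2 : F) = 0 := by linear_combination h
    have : (1 : F) = 0 := by linear_combination h3 - h2
    exact one_ne_zero this
  exact framework 1 _ X hX hev g P M hP hgP (by rw [hM, one_mul]) L U hLU hL hU

/-- Passing to `PSL₃`. -/
theorem psl3_of_sl3 (X : Matrix.SpecialLinearGroup (Fin 3) F)
    (h : ∀ g : Matrix.SpecialLinearGroup (Fin 3) F,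
      (∀ c : F, (g : Matrix (Fin 3) (Fin 3) F) ≠ c • (1 : Matrix (Fin 3) (Fin 3) F)) →
      ∃ A B : Matrix.SpecialLinearGroup (Fin 3) F, g = A * X * A⁻¹ * (B * X * B⁻¹))
    (g : Matrix.ProjectiveSpecialLinearGroup (Fin 3) F) (hg : g ≠ 1) :
    ∃ u v : Matrix.ProjectiveSpecialLinearGroup (Fin 3) F,
      g = (u * (QuotientGroup.mk X) * u⁻¹) * (v * (QuotientGroup.mk X) * v⁻¹) := by
  obtain ⟨g', rfl⟩ := QuotientGroup.mk_surjective g
  have hns : ∀ c : F, (g' : Matrix (Fin 3) (Fin 3) F) ≠ c • (1 : Matrix (Fin 3) (Fin 3) F) := by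
    intro c hc
    apply hg
    rw [QuotientGroup.eq_one_iff, Matrix.SpecialLinearGroup.mem_center_iff]
    refine ⟨c, ?_, ?_⟩
    · have := g'.2
      rw [hc, Matrix.det_smul, Matrix.det_one, mul_one] at this
      simpa using this
    · rw [hc]
      ext i j
      simp [Matrix.smul_apply, Matrix.one_apply, Matrix.diagonal_apply]
  obtain ⟨A, B, hAB⟩ := h g' hns
  refine ⟨QuotientGroup.mk A, QuotientGroup.mk B, ?_⟩
  rw [hAB]
  rfl

/-- Main theorem (S2459). -/
theorem psl3_class_square [Fintype F] (p : ℕ) [Fact p.Prime] [CharP F p]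
    (h3 : 3 ≤ Fintype.card F) :
    ∃ x : Matrix.ProjectiveSpecialLinearGroup (Fin 3) F, ¬ p ∣ orderOf x ∧
      ∀ g : Matrix.ProjectiveSpecialLinearGroup (Fin 3) F, g ≠ 1 →
        ∃ u v : Matrix.ProjectiveSpecialLinearGroup (Fin 3) F,
          g = (u * x * u⁻¹) * (v * x * v⁻¹) := by
  classical
  obtain ⟨n, -, hn⟩ := FiniteField.card F p
  have hp : p.Prime := Fact.out
  have hpq : p ∣ Fintype.card F := by
    rw [hn]; exact dvd_pow_self p n.ne_zero
  -- general principle: a power `k` prime to `p` killing `X` bounds the order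
  have key : ∀ (X : Matrix.SpecialLinearGroup (Fin 3) F) (k : ℕ), ¬ p ∣ k → X ^ k = 1 →
      ¬ p ∣ orderOf (QuotientGroup.mk X : Matrix.ProjectiveSpecialLinearGroup (Fin 3) F) := by
    intro X k hk hXk hdiv
    apply hk
    refine hdiv.trans (orderOf_dvd_of_pow_eq_one ?_)
    rw [← QuotientGroup.mk_pow, hXk]
    rfl
  by_cases hF : Fintype.card F = 3
  · -- the field with three elements
    have hdet : (blk (1 : F) !![0, -1; 1, 0]).det = 1 := by
      rw [blk_det, Matrix.det_fin_two]; simp
    obtain ⟨X, hX⟩ : ∃ X : Matrix.SpecialLinearGroup (Fin 3) F,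
        (X : Matrix (Fin 3) (Fin 3) F) = blk 1 !![0, -1; 1, 0] := ⟨⟨_, hdet⟩, rfl⟩
    refine ⟨QuotientGroup.mk X, key X 4 ?_ ?_, fun g hg => psl3_of_sl3 X (sl3_three hF X hX) g hg⟩
    · have hp3 : p = 3 := by
        rw [hF] at hpq
        exact (Nat.prime_dvd_prime_iff_eq hp Nat.prime_three).mp hpq
      rw [hp3]; decide
    · apply Subtype.ext
      rw [Matrix.SpecialLinearGroup.coe_pow, hX]
      have e2 : blk (1 : F) !![0, -1; 1, 0] ^ 2 = blk 1 (-1) := by
        rw [pow_two, blk_mul]
        congr 1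
        · ring
        · ext i j; fin_cases i <;> fin_cases j <;> simp [Matrix.mul_apply, Fin.sum_univ_two]
      have e4 : blk (1 : F) !![0, -1; 1, 0] ^ 4 = (blk (1 : F) !![0, -1; 1, 0] ^ 2) ^ 2 := by
        rw [← pow_mul]
      rw [e4, e2, pow_two, blk_mul]
      simp [blk_one_one]
  · -- at least four elements: pick `α` with `α² ≠ 1`
    have h4 : 4 ≤ Fintype.card F := by omega
    obtain ⟨α, hα, hα2⟩ : ∃ α : F, α ≠ 0 ∧ α ^ 2 ≠ 1 := by
      by_contra hcon
      push_neg at hcon
      -- every element is `0`, `1` or `-1`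
      have hsub : (Finset.univ : Finset F) ⊆ {0, 1, -1} := by
        intro a _
        by_cases ha : a = 0
        · simp [ha]
        · have h2 := hcon a ha
          have : (a - 1) * (a + 1) = 0 := by linear_combination h2
          rcases mul_eq_zero.mp this with h | h
          · have : a = 1 := by linear_combination h
            simp [this]
          · have : a = -1 := by linear_combination h
            simp [this]
      have := Finset.card_le_card hsub
      have h3' : ({0, 1, -1} : Finset F).card ≤ 3 := Finset.card_le_three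
      rw [Finset.card_univ] at this
      omega
    have hdet : (blk (1 : F) (Matrix.diagonal ![α, α⁻¹])).det = 1 := by
      rw [blk_det, Matrix.det_diagonal]
      simp [Fin.prod_univ_two, hα]
    obtain ⟨X, hX⟩ : ∃ X : Matrix.SpecialLinearGroup (Fin 3) F,
        (X : Matrix (Fin 3) (Fin 3) F) = blk 1 (Matrix.diagonal ![α, α⁻¹]) := ⟨⟨_, hdet⟩, rfl⟩
    refine ⟨QuotientGroup.mk X, key X (Fintype.card F - 1) ?_ ?_,
      fun g hg => psl3_of_sl3 X (sl3_split α hα hα2 X hX) g hg⟩
    · intro hdiv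
      have : p ∣ 1 := by
        have h := Nat.dvd_sub hpq hdiv
        have e : Fintype.card F - (Fintype.card F - 1) = 1 := by omega
        rwa [e] at h
      exact hp.one_lt.ne' (Nat.dvd_one.mp this)
    · apply Subtype.ext
      rw [Matrix.SpecialLinearGroup.coe_pow, hX]
      have hpow : ∀ k : ℕ, blk (1 : F) (Matrix.diagonal ![α, α⁻¹]) ^ k =
          blk 1 (Matrix.diagonal ![α ^ k, (α⁻¹) ^ k]) := by
        intro k
        induction k with
        | zero =>
          simp only [pow_zero]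
          rw [← blk_one_one]
          congr 1
          ext i j; fin_cases i <;> fin_cases j <;> simp
        | succ k ih =>
          rw [pow_succ, ih, blk_mul, Matrix.diagonal_mul_diagonal]
          congr 1
          · ring
          · congr 1
            ext i; fin_cases i <;> simp [pow_succ]
      rw [hpow, inv_pow, FiniteField.pow_card_sub_one_eq_one α hα]
      simp only [inv_one, Matrix.SpecialLinearGroup.coe_one]
      rw [← blk_one_one]
      congr 1
      ext i j; fin_cases i <;> fin_cases j <;> simp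

end Cfsg.Agent.Lib.Helper5.ThreeSq
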